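import Groth.Prelude.Def_W4bk4git07Quot
import Groth.Agent.AlgGrp79.RosUnits
import Groth.Agent.AlgGrp79.Act
import Groth.Agent.AlgGrp79.Pullback
import Groth.Agent.FlatCrit65.GenFlat
import Groth.Agent.SchBasics.Reduced
import Groth.Agent.SGA3a.GrpSep
import Groth.Agent.Var76.FibreBound
import Mathlib.AlgebraicGeometry.Morphisms.FlatDescent

/-!
An orbit map with closed image and proper stabiliser is proper.
-/

set_option autoImplicit false
set_option backward.isDefEq.respectTransparency.types false
set_option linter.style.haveILetI false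

universe u

open CategoryTheory CategoryTheory.Limits MonoidalCategory CartesianMonoidalCategory MonObj AlgebraicGeometry

noncomputable section

namespace Groth.Agent.GIT36.OrbitProper

variable {k : Type u} [Field k] {G X : Over (Spec (CommRingCat.of k))} [GrpObj G] (a : AlgGrp.Action G X)
  (x : 𝟙_ (Over (Spec (CommRingCat.of k))) ⟶ X)

theorem comp_orbitMap {T : Over (Spec (CommRingCat.of k))} (g : T ⟶ G) :
    g ≫ a.orbitMap x = lift g (toUnit T ≫ x) ≫ a.act := by
  rw [AlgGrp.Action.orbitMap, AlgGrp79.comp_lift_act, Category.comp_id, comp_toUnit_assoc]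

theorem mul_comp_orbitMap {T : Over (Spec (CommRingCat.of k))} (g h : T ⟶ G) :
    (g * h) ≫ a.orbitMap x = lift g (h ≫ a.orbitMap x) ≫ a.act := by
  rw [comp_orbitMap, comp_orbitMap, AlgGrp79.mul_act']

/-- The stabiliser. -/
abbrev St' : Over (Spec (CommRingCat.of k)) := Over.mk (pullback.snd (a.orbitMap x).left x.left)

/-- Its inclusion. -/
def stι : St' a x ⟶ G :=
  Over.homMk (pullback.fst (a.orbitMap x).left x.left) (by
    change _ = pullback.snd (a.orbitMap x).left x.left
    rw [← Over.w (a.orbitMap x), ← Category.assoc, pullback.condition, Category.assoc, Over.w x]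
    exact Category.comp_id _)

theorem stι_orb : stι a x ≫ a.orbitMap x = toUnit (St' a x) ≫ x :=
  Over.OverMorphism.ext pullback.condition

theorem exists_stLift {T : Over (Spec (CommRingCat.of k))} (z : T ⟶ G) (hz : z ≫ a.orbitMap x = toUnit T ≫ x) :
    ∃ h : T ⟶ St' a x, h ≫ stι a x = z :=
  ⟨Over.homMk (pullback.lift z.left T.hom (congrArg (·.left) hz)) (pullback.lift_snd _ _ _),
    Over.OverMorphism.ext (pullback.lift_fst _ _ _)⟩

/-- The kernel pair of the orbit map. -/
theorem isPullback_kernelPair :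
    IsPullback (fst G (St' a x)) (fst G (St' a x) * (snd G (St' a x) ≫ stι a x)) (a.orbitMap x) (a.orbitMap x) := by
  have hw : fst G (St' a x) ≫ a.orbitMap x =
      (fst G (St' a x) * (snd G (St' a x) ≫ stι a x)) ≫ a.orbitMap x := by
    rw [mul_comp_orbitMap, comp_orbitMap, Category.assoc, stι_orb, comp_toUnit_assoc]
  have hst : ∀ s : PullbackCone (a.orbitMap x) (a.orbitMap x),
      ∃ h : s.pt ⟶ St' a x, h ≫ stι a x = s.fst⁻¹ * s.snd := fun s =>
    exists_stLift a x _ (by rw [mul_comp_orbitMap, ← s.condition, comp_orbitMap, AlgGrp79.inv_act_act])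
  refine ⟨⟨hw⟩, ⟨PullbackCone.IsLimit.mk _ (fun s => lift s.fst (hst s).choose) ?_ ?_ ?_⟩⟩
  · intro s; simp
  · intro s
    rw [MonObj.comp_mul, lift_fst, lift_snd_assoc, (hst s).choose_spec, mul_inv_cancel_left]
  · intro s m h1 h2
    have : Mono (stι a x) := by
      have : Mono x.left := IsSplitMono.mk' ⟨X.hom, Over.w x⟩ |>.mono
      have : Mono (stι a x).left := inferInstanceAs (Mono (pullback.fst (a.orbitMap x).left x.left))
      exact Over.mono_of_mono_left _
    ext : 1
    · simp [← h1]
    · rw [lift_snd, ← cancel_mono (stι a x), (hst s).choose_spec, ← h2, ← h1, MonObj.comp_mul,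
        inv_mul_cancel_left, Category.assoc]

theorem universallyClosed_fst_self [IsProper (pullback.snd (a.orbitMap x).left x.left)] :
    UniversallyClosed (pullback.fst (a.orbitMap x).left (a.orbitMap x).left) := by
  have h : IsPullback (fst G (St' a x)).left (fst G (St' a x) * (snd G (St' a x) ≫ stι a x)).left
      (a.orbitMap x).left (a.orbitMap x).left := AlgGrp79.isPullback_left (isPullback_kernelPair a x)
  have h1 : UniversallyClosed (fst G (St' a x)).left :=
    MorphismProperty.pullback_fst (P := @UniversallyClosed) G.hom (St' a x).hom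
      (inferInstanceAs (UniversallyClosed (pullback.snd (a.orbitMap x).left x.left)))
  rw [← h.isoPullback_inv_fst]
  exact MorphismProperty.comp_mem @UniversallyClosed _ _ inferInstance h1

/-- Translation by a rational point as a scheme isomorphism. -/
def trIso (g : 𝟙_ (Over (Spec (CommRingCat.of k))) ⟶ G) : X ≅ X where
  hom := lift (toUnit X ≫ g) (𝟙 X) ≫ a.act
  inv := lift (toUnit X ≫ g⁻¹) (𝟙 X) ≫ a.act
  hom_inv_id := by
    rw [← Category.assoc, comp_lift, Category.comp_id, comp_toUnit_assoc, GrpObj.comp_inv,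
      AlgGrp79.inv_act_act]
  inv_hom_id := by
    rw [← Category.assoc, comp_lift, Category.comp_id, comp_toUnit_assoc, GrpObj.comp_inv,
      AlgGrp79.act_inv_act]

theorem comp_trIso (g : 𝟙_ (Over (Spec (CommRingCat.of k))) ⟶ G) {T : Over (Spec (CommRingCat.of k))} (h : T ⟶ G) :
    (h ≫ a.orbitMap x) ≫ (trIso a g).hom = ((toUnit T ≫ g) * h) ≫ a.orbitMap x := by
  rw [trIso, ← Category.assoc, comp_lift, Category.comp_id, comp_toUnit_assoc, mul_comp_orbitMap]

/-- Translation on the group. -/
def mulIso (g : 𝟙_ (Over (Spec (CommRingCat.of k))) ⟶ G) : G ≅ G where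
  hom := (toUnit G ≫ g) * 𝟙 G
  inv := (toUnit G ≫ g)⁻¹ * 𝟙 G
  hom_inv_id := by
    rw [MonObj.comp_mul, GrpObj.comp_inv, comp_toUnit_assoc, Category.comp_id, inv_mul_cancel_left]
  inv_hom_id := by
    rw [MonObj.comp_mul, comp_toUnit_assoc, Category.comp_id, mul_inv_cancel_left]

theorem orbitMap_trIso (g : 𝟙_ (Over (Spec (CommRingCat.of k))) ⟶ G) :
    a.orbitMap x ≫ (trIso a g).hom = (mulIso g).hom ≫ a.orbitMap x := by
  have h := comp_trIso a x g (𝟙 G)
  rwa [Category.id_comp] at h

variable [IsAlgClosed k]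

theorem exists_point {Z : Over (Spec (CommRingCat.of k))} [LocallyOfFiniteType Z.hom] (z : Z.left) (hz : IsClosed {z}) :
    ∃ p : 𝟙_ (Over (Spec (CommRingCat.of k))) ⟶ Z, ∀ q, p.left q = z :=
  ⟨Var76.ActTrans.sec Z z hz, fun q => Var76.ActTrans.sec_apply Z z hz q⟩

theorem exists_group_point [LocallyOfFiniteType G.hom] [QuasiCompact G.hom] [LocallyOfFiniteType X.hom] {z : X.left}
    (hz : IsClosed {z}) (hzr : z ∈ Set.range (a.orbitMap x).left) :
    ∃ g : 𝟙_ (Over (Spec (CommRingCat.of k))) ⟶ G, ∀ q, (g ≫ a.orbitMap x).left q = z := by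
  have : CompactSpace G.left := QuasiCompact.compactSpace_of_compactSpace G.hom
  obtain ⟨g₀, hg₀⟩ := hzr
  obtain ⟨g₁, hg₁, hcl⟩ :=
    (hz.preimage (a.orbitMap x).left.continuous).exists_closed_singleton ⟨g₀, hg₀⟩
  obtain ⟨p, hp⟩ := exists_point (Z := G) g₁ hcl
  exact ⟨p, fun q => by rw [Over.comp_left, Scheme.Hom.comp_apply, hp q]; exact hg₁⟩

/-- A closed orbit with proper stabiliser: the orbit map is proper. -/
theorem isProper_orbitMap [LocallyOfFiniteType G.hom] [QuasiCompact G.hom] [LocallyOfFiniteType X.hom]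
    (hcl : IsClosed (Set.range (a.orbitMap x).left)) [IsProper (pullback.snd (a.orbitMap x).left x.left)] :
    IsProper (a.orbitMap x).left := by
  let α := (a.orbitMap x).left
  have : Subsingleton ↥(Spec (CommRingCat.of k)) := inferInstanceAs (Subsingleton (PrimeSpectrum k))
  have : IsSeparated G.hom := SGA3a.isSeparated_of_subsingleton G
  have : IsSeparated (α ≫ X.hom) := by rw [show α ≫ X.hom = G.hom from Over.w _]; infer_instance
  have : IsSeparated α := IsSeparated.of_comp α X.hom
  have : LocallyOfFiniteType (α ≫ X.hom) := by rw [show α ≫ X.hom = G.hom from Over.w _]; infer_instance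
  have : LocallyOfFiniteType α := locallyOfFiniteType_of_comp α X.hom
  have := Var76.FibreBound.noetherianSpace G.hom
  suffices UniversallyClosed α from { }
  have : JacobsonSpace X.left := LocallyOfFiniteType.jacobsonSpace X.hom
  let C : TopologicalSpace.Closeds X.left := ⟨Set.range α, hcl⟩
  let Z := (Scheme.IdealSheafData.vanishingIdeal C).subscheme
  let ιZ : Z ⟶ X.left := (Scheme.IdealSheafData.vanishingIdeal C).subschemeι
  have : AlgebraicGeometry.IsReduced Z := SchBasics.isReduced_vanishingIdeal_subscheme C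
  have hrZ : Set.range ιZ = Set.range α := by
    rw [Scheme.IdealSheafData.range_subschemeι]
    simp [C]
  let q := pullback.snd α ιZ
  have : Surjective q := ⟨fun z => by
    obtain ⟨g, hg⟩ : ιZ z ∈ Set.range α := hrZ ▸ ⟨z, rfl⟩
    obtain ⟨w, -, hw⟩ := Scheme.Pullback.exists_preimage_pullback g z hg
    exact ⟨w, hw⟩⟩
  obtain ⟨U, hUd, hUflat, -⟩ := FlatCrit65.exists_dense_flat_lfp q
  obtain ⟨O, hO, hOU⟩ := ιZ.isClosedEmbedding.isInducing.isOpen_iff.mp U.isOpen
  let W : X.left.Opens := ⟨O, hO⟩
  obtain rfl : U = ιZ ⁻¹ᵁ W := TopologicalSpace.Opens.ext hOU.symm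
  set U := ιZ ⁻¹ᵁ W with hU
  -- the orbit map over the good open
  have hW : UniversallyClosed (α ∣_ W) := by
    let v := U.ι ≫ ιZ
    let qU := pullback.snd α v
    have hflat : Flat qU := by
      have h1 : Flat (pullback.snd q U.ι) := by
        have e := (isPullback_morphismRestrict q U).flip.isoPullback_inv_snd
        rw [← e]; infer_instance
      have e2 : (pullbackLeftPullbackSndIso α ιZ U.ι).inv ≫ pullback.snd q U.ι = qU := by simp [qU, v, q]
      rw [← e2]; infer_instance
    have hsurj : Surjective qU := ⟨fun z => by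
      obtain ⟨g, hg⟩ : v z ∈ Set.range α := hrZ ▸ ⟨U.ι z, rfl⟩
      obtain ⟨w, -, hw⟩ := Scheme.Pullback.exists_preimage_pullback g z hg
      exact ⟨w, hw⟩⟩
    have hqc : QuasiCompact qU := inferInstanceAs (QuasiCompact (pullback.snd α v))
    have hβ := universallyClosed_fst_self a x
    have h2 : UniversallyClosed (pullback.fst qU qU) := by
      have h3 : UniversallyClosed (pullback.fst (pullback.fst α v ≫ α) α) := by
        rw [← pullbackRightPullbackFstIso_inv_fst α α (pullback.fst α v)]
        exact MorphismProperty.comp_mem @UniversallyClosed _ _ inferInstance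
          (MorphismProperty.pullback_fst (P := @UniversallyClosed) _ _ hβ)
      have h4 : IsPullback (pullback.fst qU qU) (pullback.snd qU qU ≫ pullback.fst α v) (pullback.fst α v ≫ α) α := by
        have h5 := (IsPullback.of_hasPullback qU qU).paste_vert (IsPullback.of_hasPullback α v).flip
        rw [show pullback.fst α v ≫ α = qU ≫ v from pullback.condition]
        exact h5
      rw [← h4.isoPullback_hom_fst]
      exact MorphismProperty.comp_mem @UniversallyClosed _ _ inferInstance h3
    have hqU : UniversallyClosed qU :=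
      MorphismProperty.of_pullback_fst_of_descendsAlong (P := @UniversallyClosed)
        (Q := @Surjective ⊓ @Flat ⊓ @QuasiCompact) (f := qU) (g := qU) ⟨⟨hsurj, hflat⟩, hqc⟩ h2
    have hr : Set.range (pullback.fst α v) ⊆ Set.range (α ⁻¹ᵁ W).ι := by
      rw [Scheme.Opens.range_ι]
      rintro _ ⟨p, rfl⟩
      change α ((pullback.fst α v) p) ∈ W
      rw [← Scheme.Hom.comp_apply, pullback.condition, Scheme.Hom.comp_apply]
      change ιZ (U.ι ((pullback.snd α v) p)) ∈ W
      exact ((pullback.snd α v) p).2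
    let j := IsOpenImmersion.lift (α ⁻¹ᵁ W).ι (pullback.fst α v) hr
    have hj : j ≫ (α ⁻¹ᵁ W).ι = pullback.fst α v := IsOpenImmersion.lift_fac _ _ hr
    have hjα : j ≫ (α ∣_ W) = qU ≫ (ιZ ∣_ W) := by
      rw [← cancel_mono W.ι, Category.assoc, Category.assoc, morphismRestrict_ι, morphismRestrict_ι,
        ← Category.assoc j, hj]
      exact pullback.condition
    have : Surjective j := ⟨fun p => by
      obtain ⟨z, hz⟩ : α ((α ⁻¹ᵁ W).ι p) ∈ Set.range ιZ := hrZ ▸ ⟨_, rfl⟩
      have hzU : z ∈ U := by change ιZ z ∈ W; rw [hz]; exact p.2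
      obtain ⟨w, hw, -⟩ := Scheme.Pullback.exists_preimage_pullback (f := α) (g := v) ((α ⁻¹ᵁ W).ι p) ⟨z, hzU⟩ hz.symm
      refine ⟨w, (α ⁻¹ᵁ W).ι.isOpenEmbedding.injective ?_⟩
      rw [← Scheme.Hom.comp_apply, hj, hw]⟩
    have : IsClosedImmersion (ιZ ∣_ W) := IsZariskiLocalAtTarget.restrict (P := @IsClosedImmersion) inferInstance W
    have : UniversallyClosed (j ≫ (α ∣_ W)) := by rw [hjα]; infer_instance
    exact UniversallyClosed.of_comp_surjective j _
  -- translates of the good open
  have hWg : ∀ g : 𝟙_ (Over (Spec (CommRingCat.of k))) ⟶ G,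
      UniversallyClosed (α ∣_ ((trIso a g).hom.left ⁻¹ᵁ W)) := fun g => by
    let τ := (trIso a g).hom.left
    have : IsIso τ := inferInstanceAs (IsIso ((Over.forget _).map (trIso a g).hom))
    have : IsIso (mulIso g).hom.left := inferInstanceAs (IsIso ((Over.forget _).map (mulIso g).hom))
    have e : α ≫ τ = (mulIso g).hom.left ≫ α := congrArg (·.left) (orbitMap_trIso a x g)
    have h1 : UniversallyClosed ((α ≫ τ) ∣_ W) := by
      rw [e, morphismRestrict_comp]
      exact MorphismProperty.comp_mem @UniversallyClosed _ _ (IsZariskiLocalAtTarget.restrict (P := @UniversallyClosed) inferInstance _) hW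
    rw [morphismRestrict_comp] at h1
    exact (MorphismProperty.cancel_right_of_respectsIso @UniversallyClosed _ (τ ∣_ W)).mp h1
  let E : X.left.Opens := ⟨(Set.range α)ᶜ, hcl.isOpen_compl⟩
  have hE : UniversallyClosed (α ∣_ E) := by
    have : IsEmpty (α ⁻¹ᵁ E).toScheme := ⟨fun p => p.2 ⟨_, rfl⟩⟩
    infer_instance
  refine IsZariskiLocalAtTarget.of_iSup_eq_top (P := @UniversallyClosed)
    (fun i : Option (𝟙_ (Over (Spec (CommRingCat.of k))) ⟶ G) => i.elim E fun g => (trIso a g).hom.left ⁻¹ᵁ W) ?_ ?_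
  · -- the translates cover
    rw [eq_top_iff]
    intro z _
    by_contra hz
    let O' : X.left.Opens := ⨆ i : Option (𝟙_ (Over (Spec (CommRingCat.of k))) ⟶ G),
      i.elim E fun g => (trIso a g).hom.left ⁻¹ᵁ W
    obtain ⟨w, hwO, hwc⟩ := nonempty_inter_closedPoints (Z := (O' : Set X.left)ᶜ) ⟨z, hz⟩
      O'.isOpen.isClosed_compl.isLocallyClosed
    refine hwO ?_
    change w ∈ O'
    rw [TopologicalSpace.Opens.mem_iSup]
    by_cases hwr : w ∈ Set.range α
    swap
    · exact ⟨none, hwr⟩
    obtain ⟨g₁, hg₁⟩ := exists_group_point a x hwc hwr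
    have : LocallyOfFiniteType (ιZ ≫ X.hom) := inferInstance
    have : JacobsonSpace Z := LocallyOfFiniteType.jacobsonSpace (ιZ ≫ X.hom)
    obtain ⟨z₀, hz₀⟩ : w ∈ Set.range ιZ := by rw [hrZ]; exact hwr
    have hUne : (U : Set Z).Nonempty := hUd.nonempty_iff.mpr ⟨z₀⟩
    obtain ⟨u, huU, huc⟩ := nonempty_inter_closedPoints hUne U.isOpen.isLocallyClosed
    have huc' : IsClosed {ιZ u} := by
      rw [← Set.image_singleton]; exact ιZ.isClosedEmbedding.isClosedMap _ huc
    obtain ⟨g₂, hg₂⟩ := exists_group_point a x huc' (hrZ ▸ ⟨u, rfl⟩)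
    refine ⟨some (g₂ * g₁⁻¹), ?_⟩
    change (trIso a (g₂ * g₁⁻¹)).hom.left w ∈ W
    have e : (g₁ ≫ a.orbitMap x) ≫ (trIso a (g₂ * g₁⁻¹)).hom = g₂ ≫ a.orbitMap x := by
      rw [comp_trIso, toUnit_unique (toUnit (𝟙_ (Over (Spec (CommRingCat.of k))))) (𝟙 _), Category.id_comp,
        inv_mul_cancel_right]
    let q₀ : (𝟙_ (Over (Spec (CommRingCat.of k)))).left := IsLocalRing.closedPoint k
    rw [← hg₁ q₀, ← Scheme.Hom.comp_apply, ← Over.comp_left, e, hg₂]
    exact huU
  · rintro (_ | g)
    · exact hE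
    · exact hWg g

theorem isProper_psi_iff [LocallyOfFiniteType G.hom] [QuasiCompact G.hom] [LocallyOfFiniteType X.hom] :
    IsProper (GIT.psi a x).left ↔
      IsClosed (Set.range (GIT.psi a x).left.base) ∧
        IsProper (pullback.snd (GIT.psi a x).left (lift x (𝟙 (𝟙_ (Over (Spec (CommRingCat.of k)))))).left ≫
          (𝟙_ (Over (Spec (CommRingCat.of k)))).hom) := by
  have hid : IsIso (𝟙_ (Over (Spec (CommRingCat.of k)))).hom := inferInstanceAs (IsIso (𝟙 (Spec (CommRingCat.of k))))
  constructor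
  · intro h
    refine ⟨(GIT.psi a x).left.isClosedMap.isClosed_range, ?_⟩
    infer_instance
  rintro ⟨hcl, hst⟩
  have hsp : IsProper (pullback.snd (GIT.psi a x).left (lift x (𝟙 (𝟙_ (Over (Spec (CommRingCat.of k)))))).left) :=
    (MorphismProperty.cancel_right_of_respectsIso @IsProper _ _).mp hst
  let p := (fst X (𝟙_ (Over (Spec (CommRingCat.of k))))).left
  have : IsIso p := inferInstanceAs (IsIso ((Over.forget _).map (ρ_ X).hom))
  let r := (fst G (𝟙_ (Over (Spec (CommRingCat.of k))))).left
  have : IsIso r := inferInstanceAs (IsIso ((Over.forget _).map (ρ_ G).hom))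
  have e : (GIT.psi a x).left ≫ p = r ≫ (a.orbitMap x).left := by
    change (GIT.psi a x).left ≫ (fst X _).left = (fst G _).left ≫ _
    rw [← Over.comp_left, ← Over.comp_left, GIT.psi, lift_fst, comp_orbitMap]
    congr 2
    ext <;> simp [toUnit_unique (snd G (𝟙_ (Over (Spec (CommRingCat.of k))))) (toUnit _)]
  have hcl' : IsClosed (Set.range (a.orbitMap x).left) := by
    have h1 : Set.range (a.orbitMap x).left = p '' Set.range (GIT.psi a x).left := by
      rw [← Set.range_comp, ← TopCat.coe_comp, ← Scheme.Hom.comp_base, e, Scheme.Hom.comp_base, TopCat.coe_comp,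
        Function.Surjective.range_comp r.surjective]
    rw [h1]
    exact p.homeomorph.isClosedMap _ hcl
  have : IsProper (pullback.snd (a.orbitMap x).left x.left) := by
    have hsq : IsPullback (pullback.fst (GIT.psi a x).left (lift x (𝟙 (𝟙_ (Over (Spec (CommRingCat.of k)))))).left ≫ r)
        (pullback.snd (GIT.psi a x).left (lift x (𝟙 (𝟙_ (Over (Spec (CommRingCat.of k)))))).left)
        (a.orbitMap x).left x.left := by
      refine (IsPullback.of_hasPullback (GIT.psi a x).left
        (lift x (𝟙 (𝟙_ (Over (Spec (CommRingCat.of k)))))).left).paste_horiz (IsPullback.of_horiz_isIso ⟨e.symm⟩) |> fun h => ?_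
      rw [show x.left = (lift x (𝟙 (𝟙_ (Over (Spec (CommRingCat.of k)))))).left ≫ p from by
        change _ = _ ≫ (fst X _).left
        rw [← Over.comp_left, lift_fst]]
      exact h
    rw [← hsq.isoPullback_inv_snd]
    infer_instance
  have := isProper_orbitMap a x hcl'
  have h2 : IsProper ((GIT.psi a x).left ≫ p) := by rw [e]; infer_instance
  exact (MorphismProperty.cancel_right_of_respectsIso @IsProper _ _).mp h2

end Groth.Agent.GIT36.OrbitProper
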